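import Cfsg.Agent.Signal38.Basic
import Cfsg.Agent.Lib.Coprime.Generation

/-!
# The transitivity theorem for solvable signalizer functors
-/

set_option autoImplicit false
set_option linter.style.haveILetI false

namespace Cfsg.Agent.Signal38

open Subgroup
open scoped commutatorElement IsMulCommutative Pointwise

variable {G : Type*} [Group G]

section Hyperplane

variable [Finite G] {p : ℕ} [hp : Fact p.Prime] {A : Subgroup G}

/-- If `V ⊄ D` then some hyperplane `B` of `A` has `C_V(B) ⊄ D`. -/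
theorem exists_hyperplane (hA : IsElementaryAbelian p A) {V D : Subgroup G}
    (hV : A ≤ Subgroup.normalizer (V : Set G)) (hcop : p.Coprime (Nat.card V)) (hVD : ¬ V ≤ D) :
    ∃ B ≤ A, Nat.card A ≤ p * Nat.card B ∧
      ¬ V ⊓ Subgroup.centralizer (B : Set G) ≤ D := by
  obtain ⟨B, hB⟩ := exists_maximal_of_wellFoundedGT
    (fun B : Subgroup G => B ≤ A ∧ ¬ V ⊓ Subgroup.centralizer (B : Set G) ≤ D) ⟨⊥, bot_le, by
      rwa [show Subgroup.centralizer ((⊥ : Subgroup G) : Set G) = ⊤ from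
        centralizer_eq_top_iff_subset.mpr (by simp), inf_top_eq]⟩
  obtain ⟨⟨hBA, hBD⟩, hmax⟩ := hB
  refine ⟨B, hBA, ?_, hBD⟩
  by_contra hlt
  obtain ⟨a, haA, haB⟩ : ∃ a ∈ A, a ∉ B := by
    by_contra h
    push Not at h
    exact hlt ((Subgroup.card_le_of_le h).trans (Nat.le_mul_of_pos_left _ hp.out.pos))
  have hBab : ¬ A ≤ B ⊔ Subgroup.zpowers a := by
    intro h
    apply hlt
    haveI := hA.1
    haveI hn : (B.subgroupOf A).Normal := inferInstance
    have h1 := Thompson.card_sup_dvd_mul ((Subgroup.zpowers a).subgroupOf A) (B.subgroupOf A)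
    rw [← Subgroup.subgroupOf_sup (zpowers_le_of_mem haA) hBA, sup_comm,
      Subgroup.subgroupOf_eq_top.mpr h, Subgroup.card_top,
      Nat.card_congr (Subgroup.subgroupOfEquivOfLe (zpowers_le_of_mem haA)).toEquiv,
      Nat.card_congr (Subgroup.subgroupOfEquivOfLe hBA).toEquiv] at h1
    exact Nat.le_of_dvd (Nat.mul_pos hp.out.pos Nat.card_pos)
      (h1.trans (Nat.mul_dvd_mul_right (card_zpowers_dvd hA haA) _))
  obtain ⟨b, hbA, hb⟩ : ∃ b ∈ A, b ∉ B ⊔ Subgroup.zpowers a := by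
    by_contra h
    push Not at h
    exact hBab h
  have hcommA : ∀ x ∈ A, ∀ y ∈ A, Commute x y := fun x hx y hy =>
    (mem_centralizer_iff.mp (le_centralizer_self_of_elementary hA hy) x hx)
  have hda : ∀ x : G, x ∉ B → x ∈ A → orderOf x = p := fun x hxB hxA =>
    orderOf_eq_prime (hA.2 x hxA) fun h => hxB (h ▸ one_mem B)
  set A2 := Subgroup.zpowers a ⊔ Subgroup.zpowers b with hA2
  have hA2A : A2 ≤ A := sup_le (zpowers_le_of_mem haA) (zpowers_le_of_mem hbA)
  haveI hA2c : IsMulCommutative A2 :=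
    ⟨⟨fun x y => Subtype.ext (hcommA x (hA2A x.2) y (hA2A y.2))⟩⟩
  have hnc : ¬ IsCyclic A2 := by
    intro hcyc
    obtain ⟨g, hg⟩ := hcyc.exists_generator
    have hcard : Nat.card A2 ≤ p := by
      rw [← orderOf_eq_card_of_forall_mem_zpowers hg]
      exact Nat.le_of_dvd hp.out.pos
        (orderOf_dvd_of_pow_eq_one (Subtype.ext (by simpa using hA.2 g (hA2A g.2))))
    have heq : Subgroup.zpowers a = A2 := by
      refine Subgroup.eq_of_le_of_card_ge le_sup_left ?_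
      rw [Nat.card_zpowers, hda a haB haA]
      exact hcard
    exact hb (Subgroup.mem_sup_right
      (heq.ge (Subgroup.mem_sup_right (Subgroup.mem_zpowers b))))
  have hA2B : ∀ e ∈ A2, e ≠ 1 → e ∉ B := by
    intro e he he1 heB
    have hn : Subgroup.zpowers b ≤ Subgroup.normalizer (Subgroup.zpowers a : Set G) :=
      (zpowers_le_of_mem hbA).trans ((le_centralizer_self_of_elementary hA).trans
        ((Subgroup.centralizer_le (zpowers_le_of_mem haA)).trans (Subgroup.centralizer_le_normalizer _)))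
    have he' : e ∈ (Subgroup.zpowers a : Set G) * (Subgroup.zpowers b : Set G) := by
      rw [← coe_mul_of_right_le_normalizer_left _ _ hn]
      exact he
    obtain ⟨x, hx, y, hy, rfl⟩ := he'
    simp only at heB he1
    have hyB : y ∈ B ⊔ Subgroup.zpowers a := by
      rw [show y = x⁻¹ * (x * y) by group]
      exact mul_mem (inv_mem (Subgroup.mem_sup_right hx)) (Subgroup.mem_sup_left heB)
    have hy1 : y = 1 := by
      by_contra hy1
      obtain ⟨j, rfl⟩ := Subgroup.mem_zpowers_iff.mp hy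
      have hbo : orderOf b = p := hda b (fun h => hb (Subgroup.mem_sup_left h)) hbA
      have : Subgroup.zpowers (b ^ j) = Subgroup.zpowers b := by
        refine Subgroup.eq_of_le_of_card_ge (Subgroup.zpowers_le.mpr hy) ?_
        rw [Nat.card_zpowers, Nat.card_zpowers, hbo,
          orderOf_eq_prime (hA.2 _ (zpow_mem hbA j)) hy1]
      exact hb (Subgroup.zpowers_le.mpr hyB (this.ge (Subgroup.mem_zpowers b)))
    subst hy1
    rw [mul_one] at heB he1
    obtain ⟨j, rfl⟩ := Subgroup.mem_zpowers_iff.mp hx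
    have hxo : orderOf (a ^ j) = p := orderOf_eq_prime (hA.2 _ (zpow_mem haA j)) he1
    have : Subgroup.zpowers (a ^ j) = Subgroup.zpowers a := by
      refine Subgroup.eq_of_le_of_card_ge (Subgroup.zpowers_le.mpr hx) ?_
      rw [Nat.card_zpowers, Nat.card_zpowers, hda a haB haA, hxo]
    exact haB (Subgroup.zpowers_le.mpr heB (this.ge (Subgroup.mem_zpowers a)))
  set W := V ⊓ Subgroup.centralizer (B : Set G) with hW
  have hWn : A2 ≤ Subgroup.normalizer (W : Set G) := hA2A.trans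
    (Coprime.le_normalizer_inf hV (Coprime.le_normalizer_centralizer
      ((le_centralizer_self_of_elementary hA).trans
        ((Subgroup.centralizer_le hBA).trans (Subgroup.centralizer_le_normalizer _)))))
  have hcop2 : (Nat.card A2).Coprime (Nat.card W) := by
    obtain ⟨n, hn⟩ := IsPGroup.iff_card.mp ((isPGroup_of_elementary hA).to_le hA2A)
    rw [hn]
    exact (hcop.coprime_dvd_right (Subgroup.card_dvd_of_le inf_le_left)).pow_left n
  obtain ⟨e, heA2, he1, heD⟩ : ∃ e ∈ A2, e ≠ 1 ∧ ¬ W ⊓ Subgroup.centralizer {e} ≤ D := by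
    by_contra h
    push Not at h
    exact hBD (Coprime.le_of_centralizer_le A2 W D hnc hWn hcop2 h)
  refine hA2B e heA2 he1 (hmax ⟨sup_le hBA (zpowers_le_of_mem (hA2A heA2)), ?_⟩
    (le_sup_left : B ≤ B ⊔ Subgroup.zpowers e) (Subgroup.mem_sup_right (Subgroup.mem_zpowers e)))
  refine fun h => heD (le_trans ?_ h)
  refine le_inf (inf_le_left.trans inf_le_left) ?_
  rw [Subgroup.le_centralizer_iff]
  refine sup_le (Subgroup.le_centralizer_iff.mp (inf_le_left.trans inf_le_right))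
    (Subgroup.zpowers_le.mpr (mem_centralizer_iff.mpr fun w hw => ?_))
  exact mem_centralizer_singleton_iff.mp (Subgroup.mem_inf.mp hw).2

omit [Finite G] in
theorem normalizer_inf_not_le [Finite G] {q : ℕ} [Fact q.Prime] {Q D : Subgroup G}
    (hQ : IsPGroup q Q) (hDQ : D ≤ Q) (hne : D ≠ Q) :
    ¬ Subgroup.normalizer (D : Set G) ⊓ Q ≤ D := by
  intro h
  haveI := hQ.isNilpotent
  have hlt : D.subgroupOf Q < ⊤ := lt_top_iff_ne_top.mpr fun he =>
    hne (le_antisymm hDQ (Subgroup.subgroupOf_eq_top.mp he))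
  obtain ⟨x, hxn, hxD⟩ :=
    SetLike.exists_of_lt (Group.normalizerCondition_of_isNilpotent _ hlt)
  refine hxD (h (Subgroup.mem_inf.mpr ⟨?_, x.2⟩))
  rw [mem_normalizer_iff]
  intro y
  constructor
  · intro hy
    exact (mem_normalizer_iff.mp hxn ⟨y, hDQ hy⟩).mp hy
  · intro hy
    have hyQ : y ∈ Q := (Q.mul_mem_cancel_left x.2).mp ((Q.mul_mem_cancel_right (Q.inv_mem x.2)).mp (hDQ hy))
    exact (mem_normalizer_iff.mp hxn ⟨y, hyQ⟩).mpr hy

/-- For `|A| ≥ p ^ 3`, a non-identity element of `A` has fixed points outside `D` in both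
`N_{Q_i}(D)`. -/
theorem exists_common_centralizer (hA : IsElementaryAbelian p A) (hA3 : p ^ 3 ≤ Nat.card A)
    {q : ℕ} [Fact q.Prime] {Q₁ Q₂ : Subgroup G} (h₁ : IsPGroup q Q₁) (h₂ : IsPGroup q Q₂)
    (hc₁ : p.Coprime (Nat.card Q₁)) (hc₂ : p.Coprime (Nat.card Q₂))
    (hA₁ : A ≤ Subgroup.normalizer (Q₁ : Set G)) (hA₂ : A ≤ Subgroup.normalizer (Q₂ : Set G))
    (hD₁ : Q₁ ⊓ Q₂ ≠ Q₁) (hD₂ : Q₁ ⊓ Q₂ ≠ Q₂) :
    ∃ a ∈ A, a ≠ 1 ∧
      ¬ (Subgroup.normalizer ((Q₁ ⊓ Q₂ : Subgroup G) : Set G) ⊓ Q₁ ⊓ Subgroup.centralizer {a} ≤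
        Q₁ ⊓ Q₂) ∧
      ¬ (Subgroup.normalizer ((Q₁ ⊓ Q₂ : Subgroup G) : Set G) ⊓ Q₂ ⊓ Subgroup.centralizer {a} ≤
        Q₁ ⊓ Q₂) := by
  set D := Q₁ ⊓ Q₂ with hD
  have hAD : A ≤ Subgroup.normalizer (Subgroup.normalizer (D : Set G) : Set G) :=
    Coprime.le_normalizer_normalizer (Coprime.le_normalizer_inf hA₁ hA₂)
  obtain ⟨B₁, hB₁, hc1, hn1⟩ := exists_hyperplane hA (Coprime.le_normalizer_inf hAD hA₁)
    (hc₁.coprime_dvd_right (Subgroup.card_dvd_of_le inf_le_right))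
    (normalizer_inf_not_le h₁ inf_le_left hD₁)
  obtain ⟨B₂, hB₂, hc2, hn2⟩ := exists_hyperplane hA (Coprime.le_normalizer_inf hAD hA₂)
    (hc₂.coprime_dvd_right (Subgroup.card_dvd_of_le inf_le_right))
    (normalizer_inf_not_le h₂ inf_le_right hD₂)
  have hne : B₁ ⊓ B₂ ≠ ⊥ := by
    intro h
    have hinj := Subgroup.mul_injective_of_disjoint (disjoint_iff.mpr h)
    let f : B₁ × B₂ → A := fun x => ⟨(x.1 : G) * x.2, mul_mem (hB₁ x.1.2) (hB₂ x.2.2)⟩
    have hle : Nat.card B₁ * Nat.card B₂ ≤ Nat.card A := by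
      rw [← Nat.card_prod]
      exact Nat.card_le_card_of_injective f fun x y e => hinj (congrArg Subtype.val e)
    have h1 : Nat.card A * Nat.card A ≤ p * p * Nat.card A :=
      (Nat.mul_le_mul hc1 hc2).trans (by
        calc p * Nat.card B₁ * (p * Nat.card B₂) = p * p * (Nat.card B₁ * Nat.card B₂) := by ring
          _ ≤ p * p * Nat.card A := Nat.mul_le_mul_left _ hle)
    have h2 : p ^ 3 ≤ p * p := hA3.trans (Nat.le_of_mul_le_mul_right h1 Nat.card_pos)
    have h3 : p ^ 2 < p ^ 3 := Nat.pow_lt_pow_right hp.out.one_lt (by norm_num)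
    rw [pow_two] at h3
    omega
  obtain ⟨⟨a, ha⟩, ha1⟩ := (Subgroup.ne_bot_iff_exists_ne_one).mp hne
  obtain ⟨ha₁, ha₂⟩ := Subgroup.mem_inf.mp ha
  refine ⟨a, hB₁ ha₁, fun h => ha1 (Subtype.ext h), fun h => hn1 (le_trans ?_ h),
    fun h => hn2 (le_trans ?_ h)⟩ <;> refine inf_le_inf_left _ (Subgroup.centralizer_le ?_)
  · exact Set.singleton_subset_iff.mpr ha₁
  · exact Set.singleton_subset_iff.mpr ha₂

end Hyperplane

section Transitivity

variable [Finite G] {p : ℕ} [hp : Fact p.Prime] {A : Subgroup G} {θ : G → Subgroup G}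
  {q : ℕ} [hq : Fact q.Prime]

/-- Maximal `q`-subgroups of the family. -/
def IsMaxQ (p q : ℕ) (A : Subgroup G) (θ : G → Subgroup G) (Q : Subgroup G) : Prop :=
  Maximal (fun R : Subgroup G => R ∈ signalizerFamily p A θ ∧ IsPGroup q R) Q

omit hp hq in
theorem exists_isMaxQ_ge {R : Subgroup G} (hR : R ∈ signalizerFamily p A θ) (hRq : IsPGroup q R) :
    ∃ Q, R ≤ Q ∧ IsMaxQ p q A θ Q :=
  Set.Finite.exists_le_maximal
    (Set.toFinite {R : Subgroup G | R ∈ signalizerFamily p A θ ∧ IsPGroup q R}) ⟨hR, hRq⟩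

omit [Finite G] hp hq in
theorem isMaxQ_of_forall {Q : Subgroup G} (hQW : Q ∈ signalizerFamily p A θ) (hQq : IsPGroup q Q)
    (hQmax : ∀ R ∈ signalizerFamily p A θ, IsPGroup q R → Q ≤ R → R = Q) :
    IsMaxQ p q A θ Q :=
  ⟨⟨hQW, hQq⟩, fun R hR hle => (hQmax R hR.1 hR.2 hle).le⟩

omit [Finite G] in
theorem map_conj_card (c : G) (U : Subgroup G) :
    Nat.card ↥(U.map (MulAut.conj c).toMonoidHom) = Nat.card U :=
  (Nat.card_congr (U.equivMapOfInjective _ (MulAut.conj c).injective).toEquiv).symm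

omit [Finite G] in
theorem map_conj_inv_map (c : G) (U : Subgroup G) :
    (U.map (MulAut.conj c).toMonoidHom).map (MulAut.conj c⁻¹).toMonoidHom = U := by
  rw [Subgroup.map_map]
  conv_rhs => rw [← Subgroup.map_id U]
  congr 1
  ext x
  simp [mul_assoc]

omit hp in
theorem family_map_conj (hθ : IsSolvableSignalizerFunctor p A θ) {U : Subgroup G}
    (hU : U ∈ signalizerFamily p A θ) {c : G} (hc : c ∈ signalizerInf A θ) :
    U.map (MulAut.conj c).toMonoidHom ∈ signalizerFamily p A θ := by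
  refine ⟨?_, ?_, ?_, fun a ha ha1 => ?_⟩
  · haveI := hU.1
    exact Group.isSolvable_of_surjective
      (f := (U.equivMapOfInjective _ (MulAut.conj c).injective).toMonoidHom) (MulEquiv.surjective _)
  · rw [map_conj_card]; exact hU.2.1
  · rintro b hb _ ⟨u, hu, rfl⟩
    refine ⟨b * u * b⁻¹, hU.2.2.1 b hb u hu, ?_⟩
    have hbc : Commute b c := by
      rcases eq_or_ne b 1 with rfl | hb1
      · exact Commute.one_left c
      · exact (mem_centralizer_singleton_iff.mp (hθ.1.1 b hb hb1 (signalizerInf_le hb hb1 hc))).symm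
    have hbc' : b * c = c * b := hbc.eq
    show c * (b * u * b⁻¹) * c⁻¹ = b * (c * u * c⁻¹) * b⁻¹
    calc c * (b * u * b⁻¹) * c⁻¹ = (c * b) * u * (c * b)⁻¹ := by group
      _ = _ := by rw [← hbc']; group
  · intro z hz
    obtain ⟨hz1, hz2⟩ := Subgroup.mem_inf.mp hz
    obtain ⟨u, hu, rfl⟩ := hz1
    have hcθ := signalizerInf_le ha ha1 hc
    have hu' : u ∈ Subgroup.centralizer ({a} : Set G) := by
      have hcC := hθ.1.1 a ha ha1 hcθ
      have := mul_mem (mul_mem (inv_mem hcC) hz2) hcC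
      simpa [mul_assoc] using this
    exact mul_mem (mul_mem hcθ (hU.2.2.2 a ha ha1 (Subgroup.mem_inf.mpr ⟨hu, hu'⟩))) (inv_mem hcθ)

omit hp hq in
theorem isMaxQ_map_conj (hθ : IsSolvableSignalizerFunctor p A θ) {Q : Subgroup G}
    (hQ : IsMaxQ p q A θ Q) {c : G} (hc : c ∈ signalizerInf A θ) :
    IsMaxQ p q A θ (Q.map (MulAut.conj c).toMonoidHom) := by
  refine ⟨⟨family_map_conj hθ hQ.1.1 hc, hQ.1.2.map _⟩, fun R hR hle => ?_⟩
  have h1 := hQ.2 ⟨family_map_conj hθ hR.1 (inv_mem hc), hR.2.map _⟩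
    (by rw [← map_conj_inv_map c Q]; exact Subgroup.map_mono hle)
  have h2 := Subgroup.map_mono (f := (MulAut.conj c).toMonoidHom) h1
  have h3 := map_conj_inv_map c⁻¹ R
  rw [inv_inv] at h3
  rwa [h3] at h2

omit [Finite G] hp hq in
theorem coe_sylow_smul_map {K : Subgroup G} (S : Sylow q K) (c : K) :
    ((c • S : Sylow q K) : Subgroup K).map K.subtype =
      ((S : Subgroup K).map K.subtype).map (MulAut.conj (c : G)).toMonoidHom := by
  have e : K.subtype.comp ((MulAut.conj c : K ≃* K) : K →* K) =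
      ((MulAut.conj (c : G)).toMonoidHom).comp K.subtype := by ext x; simp
  rw [Subgroup.map_map, ← e, ← Subgroup.map_map]
  rfl

/-- The transitivity theorem. -/
theorem isMaxQ_conj (hA : IsElementaryAbelian p A) (hA3 : p ^ 3 ≤ Nat.card A)
    (hθ : IsSolvableSignalizerFunctor p A θ) {Q₁ Q₂ : Subgroup G} (h₁ : IsMaxQ p q A θ Q₁)
    (h₂ : IsMaxQ p q A θ Q₂) :
    ∃ c ∈ signalizerInf A θ, Q₁.map (MulAut.conj c).toMonoidHom = Q₂ := by
  induction hn : Nat.card G - Nat.card ↥(Q₁ ⊓ Q₂) using Nat.strong_induction_on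
    generalizing Q₁ Q₂ with
  | _ n IH =>
  have hone : ∀ Q : Subgroup G, Q.map (MulAut.conj (1 : G)).toMonoidHom = Q := fun Q => by
    conv_rhs => rw [← Subgroup.map_id Q]
    congr 1
    ext x
    simp
  by_cases hD₁ : Q₁ ⊓ Q₂ = Q₁
  · have hle : Q₁ ≤ Q₂ := inf_eq_left.mp hD₁
    exact ⟨1, one_mem _, (hone Q₁).trans (le_antisymm hle (h₁.2 h₂.1 hle))⟩
  by_cases hD₂ : Q₁ ⊓ Q₂ = Q₂
  · have hle : Q₂ ≤ Q₁ := inf_eq_right.mp hD₂
    exact ⟨1, one_mem _, (hone Q₁).trans (le_antisymm (h₂.2 h₁.1 hle) hle)⟩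
  have hA₁ := le_normalizer_of_invariant h₁.1.1.2.2.1
  have hA₂ := le_normalizer_of_invariant h₂.1.1.2.2.1
  obtain ⟨a, ha, ha1, hT₁, hT₂⟩ := exists_common_centralizer hA hA3 h₁.1.2 h₂.1.2
    (family_coprime h₁.1.1) (family_coprime h₂.1.1) hA₁ hA₂ hD₁ hD₂
  set D := Q₁ ⊓ Q₂ with hD
  set N := Subgroup.normalizer (D : Set G) with hN
  have hAD : A ≤ Subgroup.normalizer (D : Set G) := Coprime.le_normalizer_inf hA₁ hA₂
  have hAN : A ≤ Subgroup.normalizer (N : Set G) := Coprime.le_normalizer_normalizer hAD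
  have hAC : A ≤ Subgroup.normalizer (Subgroup.centralizer ({a} : Set G) : Set G) :=
    (le_centralizer_self_of_elementary hA).trans
      ((Subgroup.centralizer_le (Set.singleton_subset_iff.mpr ha)).trans Subgroup.le_normalizer)
  have hθW := theta_mem_family hθ ha ha1
  have hAH : A ≤ Subgroup.normalizer ((N ⊓ θ a : Subgroup G) : Set G) :=
    Coprime.le_normalizer_inf hAN (le_normalizer_of_invariant hθW.2.2.1)
  have hH : N ⊓ θ a ∈ signalizerFamily p A θ :=
    family_of_le hθW inf_le_right fun b hb u hu => (mem_normalizer_iff.mp (hAH hb) u).mp hu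
  have hcopH := elementary_coprime_family hA hH
  set T₁ := N ⊓ Q₁ ⊓ Subgroup.centralizer {a} with hT₁d
  set T₂ := N ⊓ Q₂ ⊓ Subgroup.centralizer {a} with hT₂d
  have hTH₁ : T₁ ≤ N ⊓ θ a := le_inf (inf_le_left.trans inf_le_left)
    ((inf_le_inf_right _ inf_le_right).trans (h₁.1.1.2.2.2 a ha ha1))
  have hTH₂ : T₂ ≤ N ⊓ θ a := le_inf (inf_le_left.trans inf_le_left)
    ((inf_le_inf_right _ inf_le_right).trans (h₂.1.1.2.2.2 a ha ha1))
  obtain ⟨S₁, hS₁, hS₁A⟩ := Coprime.exists_invariant_sylow_ge A (N ⊓ θ a) hAH hcopH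
    (Or.inl (isSolvable_elementary hA)) q T₁ hTH₁ (h₁.1.2.to_le (inf_le_left.trans inf_le_right))
    (Coprime.le_normalizer_inf (Coprime.le_normalizer_inf hAN hA₁) hAC)
  obtain ⟨S₂, hS₂, hS₂A⟩ := Coprime.exists_invariant_sylow_ge A (N ⊓ θ a) hAH hcopH
    (Or.inl (isSolvable_elementary hA)) q T₂ hTH₂ (h₂.1.2.to_le (inf_le_left.trans inf_le_right))
    (Coprime.le_normalizer_inf (Coprime.le_normalizer_inf hAN hA₂) hAC)
  obtain ⟨c, hcA, hcS⟩ := Coprime.exists_invariant_sylow_conj A (N ⊓ θ a) hAH hcopH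
    (Or.inl (isSolvable_elementary hA)) q S₁ S₂ hS₁A hS₂A
  have hcK : (c : G) ∈ signalizerInf A θ := by
    rw [signalizerInf_eq hθ.1 ha ha1]
    exact Subgroup.mem_inf.mpr ⟨(Subgroup.mem_inf.mp c.2).2, hcA⟩
  set P₁ := (S₁ : Subgroup ↥(N ⊓ θ a)).map (N ⊓ θ a).subtype with hP₁
  have hP₁N : P₁ ≤ N := (Subgroup.map_subtype_le _).trans inf_le_left
  have hP₁W : P₁ ∈ signalizerFamily p A θ :=
    family_of_le hH (Subgroup.map_subtype_le _) fun b hb u hu =>
      (mem_normalizer_iff.mp (hS₁A hb) u).mp hu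
  have hDW : D ∈ signalizerFamily p A θ :=
    family_of_le h₁.1.1 inf_le_left fun b hb u hu => (mem_normalizer_iff.mp (hAD hb) u).mp hu
  have hJ : D ⊔ P₁ ∈ signalizerFamily p A θ := sup_mem_family hA hDW hP₁W hP₁N
  have hJq : IsPGroup q ↥(D ⊔ P₁) :=
    (h₁.1.2.to_le inf_le_left).to_sup_of_normal_left' (S₁.isPGroup'.map _) hP₁N
  obtain ⟨Q₃, hJ3, h₃⟩ := exists_isMaxQ_ge hJ hJq
  have hstep : ∀ R : Subgroup G, D ≤ R → ∀ Q : Subgroup G, D ≤ Q →
      (∃ T : Subgroup G, T ≤ Q ∧ T ≤ R ∧ ¬ T ≤ D) → Nat.card G - Nat.card ↥(Q ⊓ R) < n := by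
    intro R hDR Q hDQ ⟨T, hTQ, hTR, hTD⟩
    have hle : D ≤ Q ⊓ R := le_inf hDQ hDR
    have hlt : Nat.card D < Nat.card ↥(Q ⊓ R) := by
      refine lt_of_le_of_ne (Subgroup.card_le_of_le hle) fun he => hTD ?_
      rw [Subgroup.eq_of_le_of_card_ge hle he.ge]
      exact le_inf hTQ hTR
    have := Subgroup.card_le_card_group (Q ⊓ R)
    omega
  obtain ⟨c₁, hc₁, he₁⟩ := IH _ (hstep Q₃ (le_sup_left.trans hJ3) Q₁ inf_le_left
    ⟨T₁, inf_le_left.trans inf_le_right, hS₁.trans (le_sup_right.trans hJ3), hT₁⟩) h₁ h₃ rfl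
  set Q₄ := Q₃.map (MulAut.conj (c : G)).toMonoidHom with hQ₄
  have hcD : D.map (MulAut.conj (c : G)).toMonoidHom = D :=
    (Subgroup.mem_normalizer_iff_map_conj_eq.mp (Subgroup.mem_inf.mp c.2).1)
  have hD4 : D ≤ Q₄ := by
    rw [← hcD]
    exact Subgroup.map_mono (le_sup_left.trans hJ3)
  have hT4 : T₂ ≤ Q₄ := by
    refine hS₂.trans ?_
    rw [← hcS, coe_sylow_smul_map]
    exact Subgroup.map_mono (le_sup_right.trans hJ3)
  obtain ⟨c₂, hc₂, he₂⟩ := IH _ (hstep Q₂ inf_le_right Q₄ hD4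
    ⟨T₂, hT4, inf_le_left.trans inf_le_right, hT₂⟩) (isMaxQ_map_conj hθ h₃ hcK) h₂ rfl
  refine ⟨c₂ * c * c₁, mul_mem (mul_mem hc₂ hcK) hc₁, ?_⟩
  rw [← he₂, ← he₁, Subgroup.map_map, Subgroup.map_map]
  congr 1
  ext x
  simp [mul_assoc]

/-- A conjugate of a maximal `q`-subgroup meets a member in a Sylow subgroup. -/
theorem exists_conj_inf_sylow (hA : IsElementaryAbelian p A) (hA3 : p ^ 3 ≤ Nat.card A)
    (hθ : IsSolvableSignalizerFunctor p A θ) {Q : Subgroup G} (hQ : IsMaxQ p q A θ Q)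
    {H : Subgroup G} (hH : H ∈ signalizerFamily p A θ) :
    ∃ c ∈ signalizerInf A θ, ∃ S : Sylow q H,
      (S : Subgroup H).map H.subtype = Q.map (MulAut.conj c).toMonoidHom ⊓ H := by
  have hAH := le_normalizer_of_invariant hH.2.2.1
  obtain ⟨S, hS⟩ := Coprime.exists_invariant_sylow A H hAH (elementary_coprime_family hA hH)
    (Or.inl (isSolvable_elementary hA)) q
  set P := (S : Subgroup H).map H.subtype with hP
  obtain ⟨Q', hPQ', hQ'⟩ := exists_isMaxQ_ge
    (family_of_le hH (Subgroup.map_subtype_le _) fun b hb u hu =>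
      (mem_normalizer_iff.mp (hS hb) u).mp hu) (S.isPGroup'.map H.subtype)
  obtain ⟨c, hc, he⟩ := isMaxQ_conj hA hA3 hθ hQ hQ'
  refine ⟨c, hc, S, ?_⟩
  have h := S.is_maximal' (Q := Q'.subgroupOf H) hQ'.1.2.comap_subtype
    (Subgroup.map_le_iff_le_comap.mp hPQ')
  rw [he, ← h, Subgroup.subgroupOf_map_subtype]

/-- `C_Q(B)` is a Sylow subgroup of the intersection of the `θ b`. -/
theorem exists_sylow_signalizerInf (hA : IsElementaryAbelian p A) (hA3 : p ^ 3 ≤ Nat.card A)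
    (hθ : IsSolvableSignalizerFunctor p A θ) {Q : Subgroup G} (hQ : IsMaxQ p q A θ Q)
    {B : Subgroup G} (hB : B ≤ A) (hB1 : B ≠ ⊥) :
    ∃ S : Sylow q ↥(signalizerInf B θ),
      (S : Subgroup ↥(signalizerInf B θ)).map (signalizerInf B θ).subtype =
        Q ⊓ Subgroup.centralizer (B : Set G) := by
  set H := signalizerInf B θ with hHd
  obtain ⟨c, hc, S, hS⟩ := exists_conj_inf_sylow hA hA3 hθ hQ (signalizerInf_mem_family hθ hB hB1)
  have hcH : c ∈ H := mem_signalizerInf.mpr fun b hb hb1 => signalizerInf_le (hB hb) hb1 hc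
  refine ⟨(⟨c, hcH⟩ : H)⁻¹ • S, ?_⟩
  rw [coe_sylow_smul_map, hS]
  have hQB : Q ⊓ Subgroup.centralizer (B : Set G) = Q ⊓ H := by
    refine le_antisymm (le_inf inf_le_left fun x hx => ?_) (le_inf inf_le_left fun x hx => ?_)
    · obtain ⟨hx1, hx2⟩ := Subgroup.mem_inf.mp hx
      exact mem_signalizerInf.mpr fun b hb hb1 => hQ.1.1.2.2.2 b (hB hb) hb1
        (Subgroup.mem_inf.mpr ⟨hx1,
          mem_centralizer_singleton_iff.mpr (mem_centralizer_iff.mp hx2 b hb).symm⟩)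
    · refine mem_centralizer_iff.mpr fun b hb => ?_
      rcases eq_or_ne b 1 with rfl | hb1
      · simp
      · exact (mem_centralizer_singleton_iff.mp (hθ.1.1 b (hB hb) hb1
          (signalizerInf_le hb hb1 (Subgroup.mem_inf.mp hx).2))).symm
  rw [hQB, Subgroup.map_inf _ _ _ (MulAut.conj _).injective]
  have h1 := map_conj_inv_map c Q
  have h2 : H.map (MulAut.conj c⁻¹).toMonoidHom = H :=
    Subgroup.mem_normalizer_iff_map_conj_eq.mp (inv_mem (Subgroup.le_normalizer hcH))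
  show (Q.map (MulAut.conj c).toMonoidHom).map (MulAut.conj c⁻¹).toMonoidHom ⊓
    H.map (MulAut.conj c⁻¹).toMonoidHom = Q ⊓ H
  rw [h1, h2]

/-- A solvable functor all of whose values are `q`-groups is complete. -/
theorem isComplete_of_isPGroup (hA : IsElementaryAbelian p A) (hA3 : p ^ 3 ≤ Nat.card A)
    (hθ : IsSolvableSignalizerFunctor p A θ) (hθq : ∀ a ∈ A, a ≠ 1 → IsPGroup q (θ a)) :
    IsCompleteSignalizerFunctor p A θ := by
  obtain ⟨Q, -, hQ⟩ := exists_isMaxQ_ge (p := p) (A := A) (θ := θ) (q := q) bot_mem_family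
    IsPGroup.of_bot
  refine ⟨hθ.1, Q, hQ.1.1.2.2.1, hQ.1.1.2.1, fun a ha ha1 => ?_⟩
  refine le_antisymm (hQ.1.1.2.2.2 a ha ha1) (le_inf ?_ (hθ.1.1 a ha ha1))
  obtain ⟨c, hc, S, hS⟩ := exists_conj_inf_sylow hA hA3 hθ hQ (theta_mem_family hθ ha ha1)
  have htop : (S : Subgroup (θ a)) = ⊤ :=
    (S.is_maximal' ((hθq a ha ha1).to_subgroup ⊤) le_top).symm
  rw [htop, ← MonoidHom.range_eq_map, Subgroup.range_subtype] at hS
  intro x hx
  have hcθ := signalizerInf_le ha ha1 hc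
  have hy : c * x * c⁻¹ ∈ Q.map (MulAut.conj c).toMonoidHom := by
    have := hS.le (mul_mem (mul_mem hcθ hx) (inv_mem hcθ))
    exact (Subgroup.mem_inf.mp this).1
  obtain ⟨y, hy1, hy2⟩ := hy
  obtain rfl : y = x := (MulAut.conj c).injective hy2
  exact hy1

end Transitivity

end Cfsg.Agent.Signal38
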