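import Cfsg.Prelude.Def_Balance
import Cfsg.Agent.Lib.Coprime.Action
import Cfsg.Agent.Lib.Components.GenFitting

/-!
# Families of solvable signalizer functors
-/

set_option autoImplicit false
set_option linter.style.haveILetI false

namespace Cfsg.Agent.Signal38

open Subgroup
open scoped commutatorElement IsMulCommutative Pointwise

variable {G : Type*} [Group G] {p : ℕ} {A : Subgroup G} {θ : G → Subgroup G}

theorem isPGroup_of_elementary (hA : IsElementaryAbelian p A) : IsPGroup p A := fun a =>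
  ⟨1, Subtype.ext (by simpa using hA.2 a a.2)⟩

theorem zpowers_le_of_mem {a : G} (ha : a ∈ A) : Subgroup.zpowers a ≤ A :=
  Subgroup.zpowers_le.mpr ha

/-- In an elementary abelian group `a` has order dividing `p`. -/
theorem card_zpowers_dvd (hA : IsElementaryAbelian p A) {a : G} (ha : a ∈ A) :
    Nat.card (Subgroup.zpowers a) ∣ p := by
  rw [Nat.card_zpowers]
  exact orderOf_dvd_of_pow_eq_one (hA.2 a ha)

theorem isSolvable_elementary (hA : IsElementaryAbelian p A) : Group.IsSolvable A :=
  haveI := hA.1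
  inferInstance

theorem le_centralizer_self_of_elementary (hA : IsElementaryAbelian p A) :
    A ≤ Subgroup.centralizer (A : Set G) := fun a ha => mem_centralizer_iff.mpr fun b hb => by
  haveI := hA.1
  exact congrArg Subtype.val (mul_comm' (⟨b, hb⟩ : A) ⟨a, ha⟩)

theorem le_normalizer_of_invariant {U : Subgroup G} (h : ∀ b ∈ A, ∀ u ∈ U, b * u * b⁻¹ ∈ U) :
    A ≤ Subgroup.normalizer (U : Set G) := Coprime.le_normalizer_of_conj_mem h

theorem mem_family_iff {U : Subgroup G} :
    U ∈ signalizerFamily p A θ ↔ Group.IsSolvable U ∧ ¬ p ∣ Nat.card U ∧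
      (∀ b ∈ A, ∀ u ∈ U, b * u * b⁻¹ ∈ U) ∧
      ∀ a ∈ A, a ≠ 1 → U ⊓ Subgroup.centralizer {a} ≤ θ a := Iff.rfl

theorem theta_mem_family (hθ : IsSolvableSignalizerFunctor p A θ) {a : G} (ha : a ∈ A)
    (ha1 : a ≠ 1) : θ a ∈ signalizerFamily p A θ :=
  ⟨hθ.2 a ha ha1, hθ.1.2.1 a ha ha1, hθ.1.2.2.1 a ha ha1, fun b hb hb1 => hθ.1.2.2.2 a ha ha1 b hb hb1⟩

theorem family_of_le [Finite G] {U V : Subgroup G} (hU : U ∈ signalizerFamily p A θ) (h : V ≤ U)
    (hinv : ∀ b ∈ A, ∀ u ∈ V, b * u * b⁻¹ ∈ V) : V ∈ signalizerFamily p A θ :=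
  ⟨haveI := hU.1; Group.isSolvable_of_isSolvable_injective (Subgroup.inclusion_injective h),
    fun hd => hU.2.1 (hd.trans (Subgroup.card_dvd_of_le h)), hinv,
    fun a ha ha1 => (inf_le_inf_right _ h).trans (hU.2.2.2 a ha ha1)⟩

theorem family_coprime [Fact p.Prime] {U : Subgroup G} (hU : U ∈ signalizerFamily p A θ) :
    p.Coprime (Nat.card U) := ((Fact.out : p.Prime).coprime_iff_not_dvd).mpr hU.2.1

theorem elementary_coprime_family [Finite G] [Fact p.Prime] (hA : IsElementaryAbelian p A)
    {U : Subgroup G} (hU : U ∈ signalizerFamily p A θ) : (Nat.card A).Coprime (Nat.card U) := by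
  obtain ⟨n, hn⟩ := IsPGroup.iff_card.mp (isPGroup_of_elementary hA)
  rw [hn]
  exact (family_coprime hU).pow_left n

theorem mem_signalizerInf {x : G} :
    x ∈ signalizerInf A θ ↔ ∀ a ∈ A, a ≠ 1 → x ∈ θ a := by
  simp only [signalizerInf, Subgroup.mem_iInf, Subtype.forall, and_imp]

theorem signalizerInf_le {a : G} (ha : a ∈ A) (ha1 : a ≠ 1) : signalizerInf A θ ≤ θ a :=
  fun _ hx => mem_signalizerInf.mp hx a ha ha1

theorem signalizerInf_eq (hθ : IsSignalizerFunctor p A θ) {a : G} (ha : a ∈ A) (ha1 : a ≠ 1) :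
    signalizerInf A θ = θ a ⊓ Subgroup.centralizer (A : Set G) := by
  apply le_antisymm
  · refine le_inf (signalizerInf_le ha ha1) fun x hx => mem_centralizer_iff.mpr fun b hb => ?_
    rcases eq_or_ne b 1 with rfl | hb1
    · simp
    · exact (mem_centralizer_singleton_iff.mp (hθ.1 b hb hb1 (signalizerInf_le hb hb1 hx))).symm
  · intro x hx
    obtain ⟨hx1, hx2⟩ := Subgroup.mem_inf.mp hx
    exact mem_signalizerInf.mpr fun b hb hb1 => hθ.2.2.2 a ha ha1 b hb hb1
      (Subgroup.mem_inf.mpr ⟨hx1,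
        mem_centralizer_singleton_iff.mpr (mem_centralizer_iff.mp hx2 b hb).symm⟩)

/-- The intersection of the `θ b`, `b ∈ B`, is in the family. -/
theorem signalizerInf_mem_family [Finite G] (hθ : IsSolvableSignalizerFunctor p A θ)
    {B : Subgroup G} (hB : B ≤ A) (hB1 : B ≠ ⊥) : signalizerInf B θ ∈ signalizerFamily p A θ := by
  obtain ⟨⟨b₀, hb₀⟩, hb₀1⟩ := (Subgroup.ne_bot_iff_exists_ne_one).mp hB1
  have hb1 : b₀ ≠ 1 := fun h => hb₀1 (Subtype.ext h)
  refine family_of_le (theta_mem_family hθ (hB hb₀) hb1) (signalizerInf_le hb₀ hb1) fun c hc u hu => ?_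
  exact mem_signalizerInf.mpr fun b hb hb1 => hθ.1.2.2.1 b (hB hb) hb1 c hc u
    (mem_signalizerInf.mp hu b hb hb1)

theorem bot_mem_family [Fact p.Prime] : (⊥ : Subgroup G) ∈ signalizerFamily p A θ :=
  ⟨inferInstance, by simp [(Fact.out : p.Prime).ne_one],
    fun b _ u hu => by simp [Subgroup.mem_bot.mp hu], fun a _ _ => inf_le_left.trans bot_le⟩

/-- The family is closed under products `XY` with `Y` normalizing `X`. -/
theorem sup_mem_family [Finite G] [hp : Fact p.Prime] (hA : IsElementaryAbelian p A)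
    {X Y : Subgroup G} (hX : X ∈ signalizerFamily p A θ) (hY : Y ∈ signalizerFamily p A θ)
    (hn : Y ≤ Subgroup.normalizer (X : Set G)) : X ⊔ Y ∈ signalizerFamily p A θ := by
  have hXA := le_normalizer_of_invariant hX.2.2.1
  have hYA := le_normalizer_of_invariant hY.2.2.1
  set H := X ⊔ Y with hH
  haveI hXn : (X.subgroupOf H).Normal :=
    (normal_subgroupOf_iff_le_normalizer le_sup_left).mpr (sup_le Subgroup.le_normalizer hn)
  have htop : Y.subgroupOf H ⊔ X.subgroupOf H = ⊤ := by
    rw [← Subgroup.subgroupOf_sup le_sup_right le_sup_left]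
    exact Subgroup.subgroupOf_eq_top.mpr (hH ▸ sup_le le_sup_right le_sup_left)
  refine ⟨?_, ?_, fun b hb u hu => ?_, fun a ha ha1 => ?_⟩
  · haveI := hX.1
    haveI := hY.1
    haveI : Group.IsSolvable (X.subgroupOf H) := Group.isSolvable_of_surjective
      (f := (Subgroup.subgroupOfEquivOfLe (le_sup_left : X ≤ H)).symm.toMonoidHom)
      (MulEquiv.surjective _)
    haveI : Group.IsSolvable (Y.subgroupOf H) := Group.isSolvable_of_surjective
      (f := (Subgroup.subgroupOfEquivOfLe (le_sup_right : Y ≤ H)).symm.toMonoidHom)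
      (MulEquiv.surjective _)
    refine (Group.isSolvable_iff_subgroup_quotient (X.subgroupOf H)).mpr ⟨inferInstance, ?_⟩
    refine Group.isSolvable_of_surjective
      (f := (QuotientGroup.mk' (X.subgroupOf H)).comp (Y.subgroupOf H).subtype) ?_
    intro z
    obtain ⟨h, rfl⟩ := QuotientGroup.mk'_surjective _ z
    obtain ⟨y, hy, x, hx, rfl⟩ := mem_sup_of_normal_right.mp (htop.ge (mem_top h))
    refine ⟨⟨y, hy⟩, ?_⟩
    simp [(QuotientGroup.eq_one_iff x).mpr hx]
  · intro hd
    have hdvd := Thompson.card_sup_dvd_mul (Y.subgroupOf H) (X.subgroupOf H)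
    rw [htop, Subgroup.card_top, Nat.card_congr (Subgroup.subgroupOfEquivOfLe (le_sup_right : Y ≤ H)).toEquiv,
      Nat.card_congr (Subgroup.subgroupOfEquivOfLe (le_sup_left : X ≤ H)).toEquiv] at hdvd
    rcases hp.out.dvd_mul.mp (hd.trans hdvd) with h | h
    · exact hY.2.1 h
    · exact hX.2.1 h
  · exact (mem_normalizer_iff.mp (Coprime.le_normalizer_sup hXA hYA hb) u).mp hu
  · intro u hu
    obtain ⟨hu1, hu2⟩ := Subgroup.mem_inf.mp hu
    have hset : u ∈ (X : Set G) * (Y : Set G) := by
      rw [← coe_mul_of_right_le_normalizer_left X Y hn]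
      exact hu1
    obtain ⟨x, hx, y, hy, rfl⟩ := hset
    have hfix : x * y ∈ Subgroup.centralizer (Subgroup.zpowers a : Set G) := by
      rw [Subgroup.zpowers_eq_closure, Subgroup.centralizer_closure]
      exact hu2
    have hcop : (Nat.card (Subgroup.zpowers a)).Coprime (Nat.card (X ⊓ Y : Subgroup G)) :=
      ((family_coprime hX).coprime_dvd_left (card_zpowers_dvd hA ha)).coprime_dvd_right
        (Subgroup.card_dvd_of_le inf_le_left)
    obtain ⟨x', hx', y', hy', he⟩ := Coprime.exists_mul_fixed (Subgroup.zpowers a) X Y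
      ((zpowers_le_of_mem ha).trans hXA) ((zpowers_le_of_mem ha).trans hYA) hcop
      (Or.inl inferInstance) x y hx hy hfix
    rw [Subgroup.zpowers_eq_closure, Subgroup.centralizer_closure] at hx' hy'
    show x * y ∈ θ a
    rw [he]
    exact mul_mem (hX.2.2.2 a ha ha1 hx') (hY.2.2.2 a ha ha1 hy')

/-- The images of a signalizer functor modulo a normal `p'`-subgroup are balanced. -/
theorem map_theta_inf_centralizer_le [Finite G] [hp : Fact p.Prime] (hA : IsElementaryAbelian p A)
    (hθ : IsSignalizerFunctor p A θ) (N : Subgroup G) [N.Normal] (hN : ¬ p ∣ Nat.card N)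
    {a b : G} (ha : a ∈ A) (ha1 : a ≠ 1) (hb : b ∈ A) (hb1 : b ≠ 1) :
    (θ a).map (QuotientGroup.mk' N) ⊓ Subgroup.centralizer {QuotientGroup.mk' N b} ≤
      (θ b).map (QuotientGroup.mk' N) := by
  intro z hz
  obtain ⟨hz1, hz2⟩ := Subgroup.mem_inf.mp hz
  obtain ⟨x, hx, rfl⟩ := hz1
  set q := QuotientGroup.mk' N with hq
  set Z := Subgroup.zpowers b with hZ
  have hZA : Z ≤ A := zpowers_le_of_mem hb
  have hθn : A ≤ Subgroup.normalizer (θ a : Set G) := le_normalizer_of_invariant (hθ.2.2.1 a ha ha1)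
  have hZn : Z ≤ Subgroup.normalizer ((θ a ⊓ N : Subgroup G) : Set G) :=
    Coprime.le_normalizer_inf (hZA.trans hθn)
      (le_of_le_of_eq le_top (normalizer_eq_top_iff.mpr ‹N.Normal›).symm)
  have hcop : (Nat.card Z).Coprime (Nat.card (θ a ⊓ N : Subgroup G)) :=
    (((hp.out.coprime_iff_not_dvd).mpr hN).coprime_dvd_left (card_zpowers_dvd hA hb)).coprime_dvd_right
      (Subgroup.card_dvd_of_le inf_le_right)
  have hcomm : Commute (q b) (q x) := (mem_centralizer_singleton_iff.mp hz2).symm
  have hcond : ∀ y ∈ Z, x⁻¹ * (y * x * y⁻¹) ∈ θ a ⊓ N := by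
    intro y hy
    refine Subgroup.mem_inf.mpr
      ⟨mul_mem (inv_mem hx) ((mem_normalizer_iff.mp (hθn (hZA hy)) x).mp hx), ?_⟩
    obtain ⟨k, rfl⟩ := Subgroup.mem_zpowers_iff.mp hy
    rw [← QuotientGroup.eq_one_iff, ← QuotientGroup.mk'_apply, ← hq]
    simp only [map_mul, map_inv, map_zpow]
    rw [(hcomm.zpow_left k).eq]
    group
  obtain ⟨n, hn, hc⟩ := Coprime.exists_fixed_in_coset Z (θ a ⊓ N) hZn hcop (Or.inl inferInstance)
    x hcond
  rw [hZ, Subgroup.zpowers_eq_closure, Subgroup.centralizer_closure] at hc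
  obtain ⟨hn1, hn2⟩ := Subgroup.mem_inf.mp hn
  refine ⟨x * n, hθ.2.2.2 a ha ha1 b hb hb1 (Subgroup.mem_inf.mpr ⟨mul_mem hx hn1, hc⟩), ?_⟩
  rw [map_mul, hq, QuotientGroup.mk'_apply, QuotientGroup.mk'_apply,
    (QuotientGroup.eq_one_iff n).mpr hn2, mul_one]

section Solvable

variable {H : Type*} [Group H] [Finite H] [hp : Fact p.Prime]

omit [Finite H] hp in
/-- A `p'`-subgroup of `C(x)` normalized by it lies in `O_{p'}(C(x))`. -/
theorem le_centralizerPPrimeCore_of_le_normalizer {x : H} {D : Subgroup H}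
    (hD : D ≤ Subgroup.centralizer ({x} : Set H))
    (hn : Subgroup.centralizer ({x} : Set H) ≤ Subgroup.normalizer (D : Set H))
    (hc : (Nat.card D).Coprime p) : D ≤ centralizerPPrimeCore p x := by
  rw [centralizerPPrimeCore, ← map_subgroupOf_eq_of_le hD]
  refine Subgroup.map_mono (Thompson.le_pPrimeCore
    ((normal_subgroupOf_iff_le_normalizer hD).mpr hn) ?_)
  rwa [Nat.card_congr (Subgroup.subgroupOfEquivOfLe hD).toEquiv]

omit [Finite H] hp in
theorem centralizer_le_normalizer_centralizerPPrimeCore (p : ℕ) (x : H) :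
    Subgroup.centralizer ({x} : Set H) ≤
      Subgroup.normalizer (centralizerPPrimeCore p x : Set H) := by
  intro c hc
  refine Coprime.le_normalizer_of_conj_mem (A := Subgroup.centralizer ({x} : Set H)) ?_ hc
  rintro a ha _ ⟨d, hd, rfl⟩
  exact ⟨⟨a, ha⟩ * d * ⟨a, ha⟩⁻¹,
    (inferInstance : (pPrimeCore p ↥(Subgroup.centralizer ({x} : Set H))).Normal).conj_mem d hd _,
    rfl⟩

omit hp in
theorem centralizerPPrimeCore_card_coprime (p : ℕ) (x : H) :
    (Nat.card ↥(centralizerPPrimeCore p x)).Coprime p :=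
  Thompson.card_pPrimeCore_coprime.coprime_dvd_left (Subgroup.card_map_dvd _ _)

/-- Goldschmidt's lemma, reduced case. -/
theorem centralizerPPrimeCore_eq_bot_of_isSolvable (hH : Group.IsSolvable H)
    (hO : pPrimeCore p H = ⊥) {a : H} {k : ℕ} (ha : a ^ p ^ k = 1) :
    centralizerPPrimeCore p a = ⊥ := by
  set D := centralizerPPrimeCore p a with hD
  set U := pCore p H with hU
  have hF : generalizedFittingSubgroup H = U := by
    rw [Components.generalizedFitting_eq_fitting_of_isSolvable hH,
      Components.fitting_eq_pCore_of_pPrimeCore_eq_bot hO]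
  have hnU : ∀ K : Subgroup H, K ≤ Subgroup.normalizer (U : Set H) := fun K => by
    rw [normalizer_eq_top_iff.mpr (inferInstance : U.Normal)]
    exact le_top
  have hDC : D ≤ Subgroup.centralizer ({a} : Set H) := Subgroup.map_subtype_le _
  have hcz : Subgroup.centralizer (Subgroup.zpowers a : Set H) =
      Subgroup.centralizer ({a} : Set H) := by
    rw [Subgroup.zpowers_eq_closure, Subgroup.centralizer_closure]
  have h1 : U ⊓ Subgroup.centralizer (Subgroup.zpowers a : Set H) ≤
      Subgroup.centralizer (D : Set H) := by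
    rw [hcz]
    intro u hu
    obtain ⟨hu1, hu2⟩ := Subgroup.mem_inf.mp hu
    rw [mem_centralizer_iff]
    rintro _ ⟨d, hd, rfl⟩
    have hu' : (⟨u, hu2⟩ : ↥(Subgroup.centralizer ({a} : Set H))) ∈ pCore p _ :=
      Thompson.subgroupOf_pCore_le _ hu1
    exact (congrArg Subtype.val
      (mem_centralizer_iff.mp (Thompson.pPrimeCore_le_centralizer_pCore hd) _ hu')).symm
  have h2 : D ≤ Subgroup.centralizer (U : Set H) :=
    Coprime.thompson_pxq p (Subgroup.zpowers a) D U
      (fun x => ⟨k, Subtype.ext (by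
        obtain ⟨j, hj⟩ := Subgroup.mem_zpowers_iff.mp x.2
        rw [Subgroup.coe_pow, ← hj, ← zpow_natCast, ← zpow_mul, mul_comm, zpow_mul, zpow_natCast, ha]
        simp)⟩)
      (centralizerPPrimeCore_card_coprime p a) Thompson.isPGroup_pCore
      (Subgroup.le_centralizer_iff.mp (hcz ▸ hDC)) (hnU _) (hnU _) h1
  have h3 : D ≤ U := by
    have := Components.centralizer_generalizedFitting_le (G := H)
    rw [hF] at this
    exact h2.trans this
  rw [eq_bot_iff, ← Thompson.inf_eq_bot_of_isPGroup_of_coprime (Thompson.isPGroup_pCore (p := p))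
    (centralizerPPrimeCore_card_coprime p a)]
  exact le_inf h3 le_rfl

/-- Goldschmidt's lemma: in a solvable group `O_{p'}(C(a)) ≤ O_{p'}(H)` for `p`-elements `a`. -/
theorem centralizerPPrimeCore_le_of_isSolvable (hH : Group.IsSolvable H) {a : H} {k : ℕ}
    (ha : a ^ p ^ k = 1) : centralizerPPrimeCore p a ≤ pPrimeCore p H := by
  set q := QuotientGroup.mk' (pPrimeCore p H) with hq
  have hbar : centralizerPPrimeCore p (q a) = ⊥ :=
    centralizerPPrimeCore_eq_bot_of_isSolvable
      (Group.isSolvable_of_surjective (QuotientGroup.mk'_surjective (pPrimeCore p H)))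
      Thompson.pPrimeCore_quotient_pPrimeCore (k := k) (by rw [← map_pow, ha, map_one])
  have hle : (centralizerPPrimeCore p a).map q ≤ centralizerPPrimeCore p (q a) := by
    refine le_centralizerPPrimeCore_of_le_normalizer ?_ ?_ ?_
    · rintro _ ⟨d, hd, rfl⟩
      exact mem_centralizer_singleton_iff.mpr ((Commute.map
        (mem_centralizer_singleton_iff.mp (Subgroup.map_subtype_le _ hd)) q).eq)
    · refine Coprime.le_normalizer_of_conj_mem fun c hc d hd => ?_
      obtain ⟨h, rfl⟩ := QuotientGroup.mk'_surjective _ c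
      obtain ⟨e, he, rfl⟩ := hd
      have hcomm : Commute (q a) (q h) := (mem_centralizer_singleton_iff.mp hc).symm
      have hcop : (Nat.card (Subgroup.zpowers a)).Coprime (Nat.card (pPrimeCore p H)) := by
        rw [Nat.card_zpowers]
        exact ((Thompson.card_pPrimeCore_coprime (p := p) (G := H)).symm.pow_left k).coprime_dvd_left
          (orderOf_dvd_of_pow_eq_one ha)
      have hnR : ∀ K : Subgroup H, K ≤ Subgroup.normalizer (pPrimeCore p H : Set H) := fun K => by
        rw [normalizer_eq_top_iff.mpr (inferInstance : (pPrimeCore p H).Normal)]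
        exact le_top
      obtain ⟨n, hn, hcn⟩ := Coprime.exists_fixed_in_coset_of_normal (Subgroup.zpowers a)
        (pPrimeCore p H) (hnR _) hcop (Or.inl inferInstance) h
        (hnR ⊤ (mem_top h)) (fun y hy => by
          obtain ⟨j, rfl⟩ := Subgroup.mem_zpowers_iff.mp hy
          rw [← QuotientGroup.eq_one_iff, ← QuotientGroup.mk'_apply, ← hq]
          simp only [map_mul, map_inv, map_zpow]
          rw [(hcomm.zpow_left j).eq]
          group)
      rw [Subgroup.zpowers_eq_closure, Subgroup.centralizer_closure] at hcn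
      refine ⟨h * n * e * (h * n)⁻¹,
        (mem_normalizer_iff.mp (centralizer_le_normalizer_centralizerPPrimeCore p a hcn) e).mp he,
        ?_⟩
      simp only [map_mul, map_inv, hq, QuotientGroup.mk'_apply,
        (QuotientGroup.eq_one_iff n).mpr hn, mul_one]
    · exact (centralizerPPrimeCore_card_coprime p a).coprime_dvd_left (Subgroup.card_map_dvd _ _)
  rw [hbar, le_bot_iff, Subgroup.map_eq_bot_iff, hq, QuotientGroup.ker_mk'] at hle
  exact hle

end Solvable

/-- `a ↦ O_{p'}(C(a))` is a solvable signalizer functor when the centralizers are solvable. -/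
theorem isSolvableSignalizerFunctor_centralizerPPrimeCore [Finite G] [hp : Fact p.Prime]
    (hA : IsElementaryAbelian p A)
    (hsolv : ∀ a ∈ A, a ≠ 1 → Group.IsSolvable ↥(Subgroup.centralizer ({a} : Set G))) :
    IsSolvableSignalizerFunctor p A (fun a => centralizerPPrimeCore p a) := by
  refine ⟨⟨fun a _ _ => Subgroup.map_subtype_le _, fun a _ _ hd => ?_, fun a ha _ b hb x hx => ?_,
    fun a ha ha1 b hb hb1 => ?_⟩, fun a ha ha1 => ?_⟩
  · exact hp.out.ne_one (Nat.eq_one_of_dvd_coprimes (centralizerPPrimeCore_card_coprime p a) hd dvd_rfl)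
  · refine (mem_normalizer_iff.mp (centralizer_le_normalizer_centralizerPPrimeCore p a ?_) x).mp hx
    exact mem_centralizer_singleton_iff.mpr
      (mem_centralizer_iff.mp (le_centralizer_self_of_elementary hA hb) a ha).symm
  · set H := Subgroup.centralizer ({b} : Set G) with hH
    set D := centralizerPPrimeCore p a ⊓ H with hD
    have haH : a ∈ H := mem_centralizer_singleton_iff.mpr
      (mem_centralizer_iff.mp (le_centralizer_self_of_elementary hA ha) b hb).symm
    have h1 : D.subgroupOf H ≤ centralizerPPrimeCore p (⟨a, haH⟩ : H) := by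
      refine le_centralizerPPrimeCore_of_le_normalizer ?_ ?_ ?_
      · intro d hd
        obtain ⟨hd1, -⟩ := Subgroup.mem_inf.mp (mem_subgroupOf.mp hd)
        exact mem_centralizer_singleton_iff.mpr (Subtype.ext
          (mem_centralizer_singleton_iff.mp (Subgroup.map_subtype_le _ hd1)))
      · refine Coprime.le_normalizer_of_conj_mem fun c hc d hd => mem_subgroupOf.mpr ?_
        obtain ⟨hd1, hd2⟩ := Subgroup.mem_inf.mp (mem_subgroupOf.mp hd)
        refine Subgroup.mem_inf.mpr ⟨?_, (c * d * c⁻¹).2⟩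
        exact (mem_normalizer_iff.mp (centralizer_le_normalizer_centralizerPPrimeCore p a
          (mem_centralizer_singleton_iff.mpr
            (congrArg Subtype.val (mem_centralizer_singleton_iff.mp hc)))) _).mp hd1
      · rw [Nat.card_congr (Subgroup.subgroupOfEquivOfLe (inf_le_right : D ≤ H)).toEquiv]
        exact (centralizerPPrimeCore_card_coprime p a).coprime_dvd_left
          (Subgroup.card_dvd_of_le inf_le_left)
    have h2 := h1.trans (centralizerPPrimeCore_le_of_isSolvable (hsolv b hb hb1) (k := 1)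
      (Subtype.ext (by simpa using hA.2 a ha)))
    intro x hx
    exact ⟨⟨x, (Subgroup.mem_inf.mp hx).2⟩, h2 (mem_subgroupOf.mpr hx), rfl⟩
  · haveI := hsolv a ha ha1
    exact Group.isSolvable_of_isSolvable_injective
      (Subgroup.inclusion_injective (Subgroup.map_subtype_le
        (pPrimeCore p ↥(Subgroup.centralizer ({a} : Set G)))))

end Cfsg.Agent.Signal38
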