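import Cfsg.Prelude.Def_Balance
import Mathlib.GroupTheory.Perm.Sign

/-!
# A rank-two solvable signalizer functor which is not complete
-/

set_option autoImplicit false

namespace Cfsg.Agent.Signal38.RankTwo

open Equiv

/-- `(0 1)`. -/
def a : Perm (Fin 5) := swap 0 1
/-- `(2 3)`. -/
def b : Perm (Fin 5) := swap 2 3
/-- `(2 3 4)`. -/
def s : Perm (Fin 5) := swap 2 3 * swap 3 4
/-- `(0 1 4)`. -/
def t : Perm (Fin 5) := swap 0 1 * swap 1 4

/-- The four-group `⟨(0 1), (2 3)⟩`. -/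
def A : Subgroup (Perm (Fin 5)) where
  carrier := {x | x = 1 ∨ x = a ∨ x = b ∨ x = a * b}
  one_mem' := Or.inl rfl
  mul_mem' := by rintro x y (rfl | rfl | rfl | rfl) (rfl | rfl | rfl | rfl) <;> decide
  inv_mem' := by rintro x (rfl | rfl | rfl | rfl) <;> decide

/-- `⟨s⟩`. -/
def S : Subgroup (Perm (Fin 5)) where
  carrier := {x | x = 1 ∨ x = s ∨ x = s * s}
  one_mem' := Or.inl rfl
  mul_mem' := by rintro x y (rfl | rfl | rfl) (rfl | rfl | rfl) <;> decide
  inv_mem' := by rintro x (rfl | rfl | rfl) <;> decide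

/-- `⟨t⟩`. -/
def T : Subgroup (Perm (Fin 5)) where
  carrier := {x | x = 1 ∨ x = t ∨ x = t * t}
  one_mem' := Or.inl rfl
  mul_mem' := by rintro x y (rfl | rfl | rfl) (rfl | rfl | rfl) <;> decide
  inv_mem' := by rintro x (rfl | rfl | rfl) <;> decide

/-- The functor. -/
def θ (x : Perm (Fin 5)) : Subgroup (Perm (Fin 5)) := if x = a then S else if x = b then T else ⊥

theorem mem_A {x : Perm (Fin 5)} : x ∈ A ↔ x = 1 ∨ x = a ∨ x = b ∨ x = a * b := Iff.rfl

theorem mem_θ {x y : Perm (Fin 5)} : y ∈ θ x ↔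
    (y = 1 ∨ (x = a ∧ (y = s ∨ y = s * s)) ∨ (x ≠ a ∧ x = b ∧ (y = t ∨ y = t * t))) := by
  unfold θ
  split_ifs with h1 h2
  · show (y = 1 ∨ y = s ∨ y = s * s) ↔ _
    simp [h1]
  · show (y = 1 ∨ y = t ∨ y = t * t) ↔ _
    simp [h2, show b ≠ a from by decide]
  · simp [h1, h2]

theorem card_dvd_three : ∀ x, ¬ 2 ∣ Nat.card ↥(θ x) := by
  intro x hd
  obtain ⟨⟨y, hy⟩, ho⟩ := exists_prime_orderOf_dvd_card' (p := 2) (G := ↥(θ x)) hd
  rw [Subgroup.orderOf_mk] at ho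
  have hy2 : y ^ 2 = 1 := ho ▸ pow_orderOf_eq_one y
  rcases mem_θ.mp hy with rfl | ⟨-, rfl | rfl⟩ | ⟨-, -, rfl | rfl⟩
  · simp at ho
  all_goals exact absurd hy2 (by decide)

theorem isSignalizerFunctor : IsSignalizerFunctor 2 A θ := by
  refine ⟨fun x hx _ y hy => ?_, fun x _ _ => card_dvd_three x, fun x _ _ c hc y hy => ?_,
    fun x hx _ c hc hc1 y hy => ?_⟩
  · rw [Subgroup.mem_centralizer_singleton_iff]
    rcases mem_θ.mp hy with rfl | ⟨rfl, rfl | rfl⟩ | ⟨-, rfl, rfl | rfl⟩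
    · simp
    all_goals decide
  · rw [mem_θ] at hy ⊢
    rcases mem_A.mp hc with rfl | rfl | rfl | rfl <;>
      rcases hy with rfl | ⟨rfl, rfl | rfl⟩ | ⟨-, rfl, rfl | rfl⟩ <;> simp <;> decide
  · obtain ⟨hy1, hy2⟩ := Subgroup.mem_inf.mp hy
    rw [Subgroup.mem_centralizer_singleton_iff] at hy2
    rcases mem_θ.mp hy1 with rfl | ⟨rfl, rfl | rfl⟩ | ⟨-, rfl, rfl | rfl⟩
    · exact one_mem _
    all_goals rw [mem_θ]
    all_goals rcases mem_A.mp hc with rfl | rfl | rfl | rfl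
    all_goals revert hy2 hc1
    all_goals decide

theorem isSolvable (x : Perm (Fin 5)) : Group.IsSolvable ↥(θ x) := by
  refine Group.isSolvable_of_comm fun u v => Subtype.ext ?_
  rcases mem_θ.mp u.2 with h | ⟨hx, h | h⟩ | ⟨hxa, hx, h | h⟩ <;>
    rcases mem_θ.mp v.2 with h' | ⟨hx', h' | h'⟩ | ⟨hxa', hx', h' | h'⟩ <;>
    first
    | (exact absurd hx' hxa)
    | (exact absurd hx hxa')
    | (simp only [Subgroup.coe_mul, h, h'] <;> decide)

theorem not_complete : ¬ IsCompleteSignalizerFunctor 2 A θ := by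
  rintro ⟨-, X, -, hX, hXθ⟩
  have hs : s ∈ X := by
    have h : s ∈ θ a := mem_θ.mpr (Or.inr (Or.inl ⟨rfl, Or.inl rfl⟩))
    rw [← hXθ a (mem_A.mpr (Or.inr (Or.inl rfl))) (by decide)] at h
    exact (Subgroup.mem_inf.mp h).1
  have ht : t ∈ X := by
    have h : t ∈ θ b := mem_θ.mpr (Or.inr (Or.inr ⟨by decide, rfl, Or.inl rfl⟩))
    rw [← hXθ b (mem_A.mpr (Or.inr (Or.inr (Or.inl rfl)))) (by decide)] at h
    exact (Subgroup.mem_inf.mp h).1
  have hw : s * s * t * s * t ∈ X := mul_mem (mul_mem (mul_mem (mul_mem hs hs) ht) hs) ht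
  have ho : orderOf (s * s * t * s * t) = 2 := orderOf_eq_prime (by decide) (by decide)
  exact hX (ho ▸ Subgroup.orderOf_dvd_natCard X hw)

theorem card_A : Nat.card ↥A = 4 := by
  have e : (A : Set (Perm (Fin 5))) = (({1, a, b, a * b} : Finset (Perm (Fin 5))) : Set _) := by
    ext x
    simp [mem_A]
  rw [← SetLike.coe_sort_coe, e, Nat.card_coe_set_eq, Set.ncard_coe_finset]
  decide

theorem isElementaryAbelian : IsElementaryAbelian 2 A := by
  refine ⟨⟨⟨fun u v => Subtype.ext ?_⟩⟩, fun x hx => ?_⟩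
  · rcases mem_A.mp u.2 with h | h | h | h <;> rcases mem_A.mp v.2 with h' | h' | h' | h' <;>
      (simp only [Subgroup.coe_mul, h, h'] <;> decide)
  · rcases mem_A.mp hx with rfl | rfl | rfl | rfl <;> decide

end Cfsg.Agent.Signal38.RankTwo
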